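import Cfsg.Agent.J4Rep94.C24.Data

/-!
# Certificate data
-/

set_option autoImplicit false
set_option maxRecDepth 100000

namespace Cfsg.Agent.J4Rep94.C24

open Cfsg.Agent.CosetEnum

def fv0 : ℕ := 0x79000010007600161000020003d000070012400001000740015f000020006a000060012600001000720015d000020007c00007000f600001000700015b000020007b00006000f4000010006e00159000020007a00008000f2000010006c00157000020007900006000f0000010006a00155000020007800007000ee000010006800153000020007700006000ec000010006600151000020007600007000ea00001000640014f000020007500006000e800001000620014d000020007400008000e600001000600014b000020007300006000e4000010005e00149000020007200007000e2000010005c00147000020007100006000e0000f900144000030005a000010002d00009000fb000010005800143000020007e00006000fd000010005600141000020007f00008000ff00001000540013f0000200080000060010100001000520013d0000200081000070010300001000500013b00002000820000600115000010004e00139000020008b0000700117000010004c00137000020008c0000600119000010004a00135000020008d000080011b000010004800133000020008e000060011d000010004600131000020008f000070011f00001000440012e0000200090000060004200001001210012c000020002100005001230012b00112001100010e0010c0010a0010800106001040007c001280001500017000190001b0001d0001f000210002300014000400003e0003c0003a00038000360003400032000300002e0002c0002a0002800026000240000f0001200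00400112001100010e0010c0010a0010800106001040007c0012800015000170000c00122001200011e0011c0011a0011800116001140010200100000fe000fc000fa000f8000de000dc000da000d8000d6000d40001c0001a00018000170000c000030007a0000100012000010000900002001250007800002000f6000f4000f2000f0000ee000ec000ea000e8000e6000e4000e2000e0000de000dc000da000d8000d6000d40001c0001a00018000160001400012000100000e0000c0000a00008000060000400002000000002100000000010007800001000d2000d0000ce000cc000ca000c8000c6000c4000c2000c0000be000bc000ba000b8000b6000b4000b2000b0000ae000ac000aa000a8000a6000a4000a2000a00009e0009c0009a00098000960009400092000900008e0008c0008a00088000860008400082000800007e0007c0007a000100000e0000c0000a0000800006000040000200000000360000000000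
theorem fok0 : sys.checkFacts 146 32 fv0 = true := by decide +kernel


end Cfsg.Agent.J4Rep94.C24
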